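import Mathlib
import Cfsg.Agent.Lib.helper15.St2
import Cfsg.Agent.Lib.helper3.STC.Defs
import Cfsg.Agent.Lib.helper3.STC.Defs2
import Cfsg.Agent.Lib.helper3.STC.Defs3
import Cfsg.Agent.Lib.Lead.STD.Defs

/-!
# STB: abstract Steinberg systems of type `B_m` (definitions).  Project family for S2094 (designer lead).

EXTENSION of the lead's type `D` library STD (`Cfsg.Agent.Lib.Lead.STD`), which is itself a port of helper3's type `C` library STC.  Signed indices `ι ⊕ ι`, `ng`, `ab`, `sws`,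
`Em`, `ev`, `sv` are those of `Cfsg.Agent.Lib.helper3.STC`; `Td`, `SysD`, `wOf`, `hOf`, `dwd` those of STD.

The quadratic form is `Q(v) = v₀² + Σ_i v (inl i) * v (inr i)` on `Unit ⊕ (l ⊕ l) → K` (`Cfsg.quadFormOdd`), `char K ≠ 2` in the applications.
* LONG roots `e_a - e_b` (`a ≠ b`, `a ≠ ng b`; `e_{ng a} = -e_a`): the root element is `TbL a b t = 1 + t E_{a,b} - t E_{-b,-a}` (the matrix `Td a b t` of STD on the coordinates `l ⊕ l`,
  the identity on the coordinate `0`).  The long root elements of a `SysB` form a `SysD` (`SysB.toSysD`), so ALL of STD applies to them.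
* SHORT roots `e_a`: the root element is the Eichler transformation `TbS a t = 1 + t E_{0,-a} - 2t E_{a,0} - t² E_{a,-a}`
  (`v ↦ v + t v_{-a} e_0 - 2 t v_0 e_a - t² v_{-a} e_a`).
Relations (all checked numerically in `SO_7(ℚ)`, `scratch/stb/rel.py` of the lead; NO signs depending on the indices):
  `[xs a t, xs b u] = x a (ng b) (-2tu)`, `[x a b t, xs b u] = xs a (tu) * x a (ng b) (t u²)`, `xs a` commutes with `x c d` unless `d = a` or `c = ng a`,
  the short Weyl element `ws a t = xs a t * xs (ng a) t⁻¹ * xs a t` (NOTE: `+t⁻¹`) is monomial: `e_a ↦ -t⁻² e_{-a}`, `e_{-a} ↦ -t² e_a`, `e_0 ↦ -e_0`,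
  `cj (ws a t) (xs a u) = xs (ng a) (t⁻² u)`.  So `X t = xs a t`, `Y t = xs (ng a) (-t)` is a rank one system `St K G` of helper15 (`SysB.sts`).
-/

set_option autoImplicit false

namespace Cfsg.Agent.Lib.Lead.STB

open Cfsg.Agent.Lib.helper15.St2 Cfsg.Agent.Lib.helper3.STC Cfsg.Agent.Lib.Lead.STD

/-- the index type of the natural module: `0`, then the signed indices -/
abbrev Ix (l : Type*) := Unit ⊕ (l ⊕ l)

/-- the coordinate `0` -/
abbrev i0 {l : Type*} : Ix l := Sum.inl ()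

/-- The long root element `1 + t E_{a,b} - t E_{-b,-a}` (`a ≠ b`, `a ≠ ng b`). -/
def TbL {l : Type*} [DecidableEq l] {K : Type*} [Field K] (a b : l ⊕ l) (t : K) : Matrix (Ix l) (Ix l) K :=
  1 + Matrix.single (Sum.inr a) (Sum.inr b) t - Matrix.single (Sum.inr (ng b)) (Sum.inr (ng a)) t

/-- The short root element `1 + t E_{0,-a} - 2t E_{a,0} - t² E_{a,-a}`. -/
def TbS {l : Type*} [DecidableEq l] {K : Type*} [Field K] (a : l ⊕ l) (t : K) : Matrix (Ix l) (Ix l) K :=
  1 + Matrix.single i0 (Sum.inr (ng a)) t - Matrix.single (Sum.inr a) i0 (2 * t) - Matrix.single (Sum.inr a) (Sum.inr (ng a)) (t * t)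

/-- The Gram matrix of the polar form of `v₀² + Σ_i v (inl i) * v (inr i)`. -/
def JB {l : Type*} [DecidableEq l] {K : Type*} [Field K] : Matrix (Ix l) (Ix l) K :=
  fun x y => match x, y with
    | Sum.inl _, Sum.inl _ => 2
    | Sum.inr a, Sum.inr b => if b = ng a then 1 else 0
    | _, _ => 0

/-- An abstract Steinberg system of type `B` on the index type `ι` in the group `G`: a system of type `D` (the long roots) together with the short root elements `xs a t`. -/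
structure SysB (K : Type*) [Field K] (ι : Type*) (G : Type*) [Group G] extends SysD K ι G where
  xs : ι ⊕ ι → K → G
  adds : ∀ a t u, xs a t * xs a u = xs a (t + u)
  comm_ls : ∀ a c d, c ≠ d → c ≠ ng d → d ≠ a → c ≠ ng a → ∀ t u, xs a t * x c d u = x c d u * xs a t
  ls : ∀ a b, a ≠ b → a ≠ ng b → ∀ t u,
    x a b t * xs b u * (x a b t)⁻¹ * (xs b u)⁻¹ = xs a (t * u) * x a (ng b) (t * u ^ 2)
  ss : ∀ a b, a ≠ b → a ≠ ng b → ∀ t u,
    xs a t * xs b u * (xs a t)⁻¹ * (xs b u)⁻¹ = x a (ng b) (-(2 * t * u))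
  rels : ∀ a t u, t ≠ 0 → cj (xs a t * xs (ng a) t⁻¹ * xs a t) (xs a u) = xs (ng a) (t⁻¹ ^ 2 * u)

namespace SysB

variable {K : Type*} [Field K] {ι : Type*} {G : Type*} [Group G] (S : SysB K ι G)

/-- The long Weyl element `w_ab(t)` (that of the underlying `SysD`). -/
abbrev w (a b : ι ⊕ ι) (t : K) : G := S.toSysD.w a b t

/-- The long torus element `h_ab(t)` (that of the underlying `SysD`). -/
abbrev h (a b : ι ⊕ ι) (t : K) : G := S.toSysD.h a b t

/-- The short Weyl element `ws a t = xs a t * xs (ng a) t⁻¹ * xs a t`: `e_a ↦ -t⁻² e_{-a}`, `e_{-a} ↦ -t² e_a`, `e_0 ↦ -e_0`. -/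
def ws (a : ι ⊕ ι) (t : K) : G := S.xs a t * S.xs (ng a) t⁻¹ * S.xs a t

/-- The short torus element `hs a t = ws a t * ws a (-1)`: `e_a ↦ t² e_a`, `e_{-a} ↦ t⁻² e_{-a}`. -/
def hs (a : ι ⊕ ι) (t : K) : G := S.ws a t * S.ws a (-1)

/-- the spin relation: it kills the kernel of `Spin_{2m+1} → Ω_{2m+1}` -/
def Spin : Prop := ∀ a : ι ⊕ ι, S.hs a (-1) = 1

/-- The rank one system attached to a short root: `X t = xs a t`, `Y t = xs (ng a) (-t)`. -/
def sts (a : ι ⊕ ι) : St K G where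
  X c t := if c then S.xs a t else S.xs (ng a) (-t)
  add c t u := by
    cases c
    · show S.xs (ng a) (-t) * S.xs (ng a) (-u) = S.xs (ng a) (-(t + u))
      rw [S.adds, neg_add]
    · exact S.adds a t u
  rel c t u ht := by
    have hn : ng (ng a) = a := by cases a <;> rfl
    cases c
    · show cj (S.xs (ng a) (-t) * S.xs a (-t⁻¹) * S.xs (ng a) (-t)) (S.xs (ng a) (-u)) = S.xs a (-(t⁻¹ ^ 2 * u))
      have h := S.rels (ng a) (-t) (-u) (neg_ne_zero.2 ht)
      rw [hn] at h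
      have e1 : (-t)⁻¹ = -t⁻¹ := by rw [inv_neg]
      rw [e1] at h
      rw [h]
      congr 1
      ring
    · show cj (S.xs a t * S.xs (ng a) (-(-t⁻¹)) * S.xs a t) (S.xs a u) = S.xs (ng a) (-(-(t⁻¹ ^ 2 * u)))
      rw [neg_neg, neg_neg]
      exact S.rels a t u ht

/-- `g` acts monomially on the root elements, with permutation `σ` of the signed indices (commuting with `ng`), coefficients `d` (`g e_k = d k • e_{σ k}`, `d k * d (ng k) = 1`)
and `d0 = ± 1` (`g e_0 = d0 • e_0`). -/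
def IsMon (g : G) (σ : Equiv.Perm (ι ⊕ ι)) (d : ι ⊕ ι → K) (d0 : K) : Prop :=
  S.toSysD.IsMon g σ d ∧ (∀ k, σ (ng k) = ng (σ k)) ∧ (∀ k, d k * d (ng k) = 1) ∧ d0 * d0 = 1 ∧
    ∀ k t, cj g (S.xs k t) = S.xs (σ k) (d k * d0 * t)

/-- The subgroup generated by the long root subgroups `x a b` with `Q a b` and the short root subgroups `xs a` with `Qs a`. -/
def XQ (Q : ι ⊕ ι → ι ⊕ ι → Prop) (Qs : ι ⊕ ι → Prop) : Subgroup G :=
  Subgroup.closure ({g | ∃ a b t, a ≠ b ∧ a ≠ ng b ∧ Q a b ∧ g = S.x a b t} ∪ {g | ∃ a t, Qs a ∧ g = S.xs a t})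

variable (o : ι ⊕ ι)

/-- The lower unipotent radical (abelian): generated by the `x a o` and `xs (ng o)` (the roots `e_a - e_o`, `-e_o`). -/
def Yg : Subgroup G := S.XQ (fun _ b => b = o) (fun a => a = ng o)

/-- The subgroup fixing the basis vector `e_o`: the `x a b` with `b ≠ o`, `a ≠ ng o`, the `xs a` with `a ≠ ng o`. -/
def Pg : Subgroup G := S.XQ (fun a b => b ≠ o ∧ a ≠ ng o) (fun a => a ≠ ng o)

/-- The upper unipotent radical: generated by the `x o b` and `xs o`. -/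
def Ag : Subgroup G := S.XQ (fun a _ => a = o) (fun a => a = o)

/-- The Levi factor (type `B` on the other indices): the `x a b`, `xs a` with `a, b ∉ {o, -o}`. -/
def Lg : Subgroup G := S.XQ (fun a b => (a ≠ o ∧ a ≠ ng o) ∧ (b ≠ o ∧ b ≠ ng o)) (fun a => a ≠ o ∧ a ≠ ng o)

/-- The torus part. -/
def Hg : Subgroup G :=
  Subgroup.closure ({g | ∃ b t, b ≠ o ∧ b ≠ ng o ∧ t ≠ 0 ∧ g = S.h o b t} ∪ {g | ∃ t, t ≠ 0 ∧ g = S.hs o t})

/-- The parabolic subgroup (the stabiliser of the line of `e_o`). -/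
def Phat : Subgroup G := S.Pg o ⊔ S.Hg o

/-- The big cell. -/
def cell0 : Set G := {g | ∃ y ∈ S.Yg o, ∃ p ∈ S.Phat o, g = y * p}

/-- The cell attached to `k` (`k ≠ o`, `k ≠ ng o`). -/
def cell (k : ι ⊕ ι) : Set G := {g | ∃ y ∈ S.Yg o, ∃ p ∈ S.Phat o, g = S.w o k 1 * y * p}

/-- The opposite cell (type `B` HAS the Weyl element `ws o`). -/
def cellN : Set G := {g | ∃ y ∈ S.Yg o, ∃ p ∈ S.Phat o, g = S.ws o 1 * y * p}

/-- Membership in the union of the cells. -/
def InD (g : G) : Prop :=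
  g ∈ S.cell0 o ∨ (∃ k, k ≠ o ∧ k ≠ ng o ∧ g ∈ S.cell o k) ∨ g ∈ S.cellN o

/-- The set of products `a * l * hs o c`. -/
def ALT : Set G := {g | ∃ a ∈ S.Ag o, ∃ l ∈ S.Lg o, ∃ c : K, c ≠ 0 ∧ g = a * l * S.hs o c}

/-- `n` lies in the parabolic subgroup `Phat o` and normalises `Yg o` -/
def NP (n : G) : Prop := n ∈ S.Phat o ∧ ∀ y ∈ S.Yg o, cj n y ∈ S.Yg o

/-- A homomorphism to a general linear group sending the root elements to the elementary orthogonal matrices. -/
structure Rep (S : SysB K ι G) (l : Type*) [Fintype l] [DecidableEq l] where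
  e : ι ↪ l
  φ : G →* Matrix.GeneralLinearGroup (Ix l) K
  hφ : ∀ a b, a ≠ b → a ≠ ng b → ∀ t,
    ((φ (S.x a b t) : Matrix.GeneralLinearGroup (Ix l) K) : Matrix (Ix l) (Ix l) K) = TbL (Em e a) (Em e b) t
  hφs : ∀ a t,
    ((φ (S.xs a t) : Matrix.GeneralLinearGroup (Ix l) K) : Matrix (Ix l) (Ix l) K) = TbS (Em e a) t

/-- the matrix of `g` in a representation -/
def Rep.M {S : SysB K ι G} {l : Type*} [Fintype l] [DecidableEq l] (R : S.Rep l) (g : G) : Matrix (Ix l) (Ix l) K :=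
  ((R.φ g : Matrix.GeneralLinearGroup (Ix l) K) : Matrix (Ix l) (Ix l) K)

end SysB

/-- coefficients of the short Weyl element `ws a u`: `e_a ↦ -u⁻² e_{-a}`, `e_{-a} ↦ -u² e_a` (and `e_0 ↦ -e_0`) -/
def dwb {K : Type*} [Field K] {ι : Type*} [DecidableEq ι] (a : ι ⊕ ι) (u : K) : ι ⊕ ι → K := fun k =>
  if k = a then -(u⁻¹ ^ 2) else if k = ng a then -(u ^ 2) else 1

/-- coefficients of the short torus element `hs a u`: `e_a ↦ u² e_a`, `e_{-a} ↦ u⁻² e_{-a}` -/
def dhb {K : Type*} [Field K] {ι : Type*} [DecidableEq ι] (a : ι ⊕ ι) (u : K) : ι ⊕ ι → K := fun k =>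
  if k = a then u ^ 2 else if k = ng a then u⁻¹ ^ 2 else 1

/-- the permutation of the short Weyl element: `a ↔ ng a` -/
def swb {ι : Type*} [DecidableEq ι] (a : ι ⊕ ι) : Equiv.Perm (ι ⊕ ι) := Equiv.swap a (ng a)

end Cfsg.Agent.Lib.Lead.STB
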