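import Mathlib
import Cfsg.Agent.Lib.Lead.STB.Defs

/-!
# STB, definitions part 3: the pieces of the abelian group `Yg o` and the normal form of the parabolic subgroup in rank at least two.
-/

set_option autoImplicit false

namespace Cfsg.Agent.Lib.Lead.STB

open Cfsg.Agent.Lib.helper15.St2 Cfsg.Agent.Lib.helper3.STC Cfsg.Agent.Lib.Lead.STD

namespace SysB

variable {K : Type*} [Field K] {ι : Type*} {G : Type*} [Group G] (S : SysB K ι G) (o : ι ⊕ ι)

/-- the long part of `Yg o`: generated by the `x a o` -/
def Ys : Subgroup G := S.XQ (fun _ b => b = o) (fun _ => False)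

/-- `Yg o` without the root subgroup `x j o` (the short root subgroup `xs (ng o)` is still there) -/
def Yj (j : ι ⊕ ι) : Subgroup G := S.XQ (fun a b => b = o ∧ a ≠ j) (fun a => a = ng o)

/-- `Yg o` without the root subgroups `x o' o` and `x (ng o') o` -/
def Yjj (o' : ι ⊕ ι) : Subgroup G := S.XQ (fun a b => b = o ∧ (a ≠ o' ∧ a ≠ ng o')) (fun a => a = ng o)

/-- the part of the long part of `Yg o` with first index in `T` -/
def YT (T : Set (ι ⊕ ι)) : Subgroup G := S.XQ (fun a b => b = o ∧ a ∈ T) (fun _ => False)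

/-- The set of products `a * l * h o j c` (the normal form in the parabolic subgroup, rank at least two). -/
def ALTj (j : ι ⊕ ι) : Set G := {g | ∃ a ∈ S.Ag o, ∃ l ∈ S.Lg o, ∃ c : K, c ≠ 0 ∧ g = a * l * S.h o j c}

end SysB

end Cfsg.Agent.Lib.Lead.STB
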