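import Mathlib
import Cfsg.Agent.Lib.Lead.STB.Defs

/-!
# STB, definitions part 4: the basis vectors of the natural module `Ix l → K`.
-/

set_option autoImplicit false

namespace Cfsg.Agent.Lib.Lead.STB

open Cfsg.Agent.Lib.helper15.St2 Cfsg.Agent.Lib.helper3.STC Cfsg.Agent.Lib.Lead.STD

/-- the basis vector of an index of the natural module -/
def evb {l : Type*} [DecidableEq l] {K : Type*} [Field K] (c : Ix l) : Ix l → K := Pi.single c 1

/-- the index of the natural module attached to a signed index of the system -/
abbrev Eb {ι l : Type*} (e : ι ↪ l) (a : ι ⊕ ι) : Ix l := Sum.inr (Em e a)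

end Cfsg.Agent.Lib.Lead.STB
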