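import Mathlib
import Cfsg.Agent.Lib.helper3.STC.Sub
import Cfsg.Agent.Lib.Lead.STB.Defs

/-!
# STB: the subsystem on the complement of an index

`S.sub i₀` is the Steinberg system of type `B` on `{i // i ≠ i₀}` inside the Levi factor `S.Lg (Sum.inl i₀)`; a representation restricts to it; the spin
relation is inherited.  Port of `Cfsg/Agent/Lib/Lead/STD/Sub.lean` (the lemmas `sv_ng`, `sv_ne`, `sv_ne_ng`, `sv_ne_inl`, `sv_ne_inr`, `exists_sv` of `helper3.STC.Sub` are used).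
-/

set_option autoImplicit false

namespace Cfsg.Agent.Lib.Lead.STB

open Cfsg.Agent.Lib.helper15.St2 Cfsg.Agent.Lib.helper3.STC Cfsg.Agent.Lib.Lead.STD

universe v w

namespace SysB

variable {K : Type*} [Field K] {ι : Type v} {G : Type w} [Group G] (S : SysB K ι G)

theorem x_mem_Lg_sv (i₀ : ι) (a b : {i // i ≠ i₀} ⊕ {i // i ≠ i₀}) (t : K) :
    S.x (sv i₀ a) (sv i₀ b) t ∈ S.Lg (Sum.inl i₀) := by
  by_cases h : sv i₀ a = sv i₀ b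
  · rw [h, S.diag]; exact one_mem _
  · by_cases h' : sv i₀ a = ng (sv i₀ b)
    · rw [h']
      have : S.x (ng (sv i₀ b)) (sv i₀ b) t = 1 := by
        have := S.opp (ng (sv i₀ b)) t
        rwa [show ng (ng (sv i₀ b)) = sv i₀ b from by cases (sv i₀ b) <;> rfl] at this
      rw [this]; exact one_mem _
    · exact Subgroup.subset_closure (Or.inl ⟨sv i₀ a, sv i₀ b, t, h, h',
        ⟨⟨sv_ne_inl i₀ a, sv_ne_inr i₀ a⟩, ⟨sv_ne_inl i₀ b, sv_ne_inr i₀ b⟩⟩, rfl⟩)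

theorem xs_mem_Lg_sv (i₀ : ι) (a : {i // i ≠ i₀} ⊕ {i // i ≠ i₀}) (t : K) :
    S.xs (sv i₀ a) t ∈ S.Lg (Sum.inl i₀) :=
  Subgroup.subset_closure (Or.inr ⟨sv i₀ a, t, ⟨sv_ne_inl i₀ a, sv_ne_inr i₀ a⟩, rfl⟩)

/-- The subsystem on the complement of the index `i₀`, inside the Levi factor. -/
def sub (i₀ : ι) : SysB K {i // i ≠ i₀} (S.Lg (Sum.inl i₀)) where
  x a b t := ⟨S.x (sv i₀ a) (sv i₀ b) t, S.x_mem_Lg_sv i₀ a b t⟩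
  diag a t := Subtype.ext (S.diag (sv i₀ a) t)
  opp a t := Subtype.ext (by
    show S.x (sv i₀ a) (sv i₀ (ng a)) t = 1
    rw [sv_ng]; exact S.opp _ t)
  sym a b hab hab' t := Subtype.ext (by
    show S.x (sv i₀ a) (sv i₀ b) t = S.x (sv i₀ (ng b)) (sv i₀ (ng a)) (-t)
    rw [sv_ng, sv_ng]
    exact S.sym _ _ (sv_ne i₀ hab) (sv_ne_ng i₀ hab') t)
  add a b hab hab' t u := Subtype.ext (S.add _ _ (sv_ne i₀ hab) (sv_ne_ng i₀ hab') t u)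
  comm a b c d hab hab' hcd hcd' hbc had hbd hac t u := Subtype.ext
    (S.comm _ _ _ _ (sv_ne i₀ hab) (sv_ne_ng i₀ hab') (sv_ne i₀ hcd) (sv_ne_ng i₀ hcd') (sv_ne i₀ hbc)
      (sv_ne i₀ had) (sv_ne_ng i₀ hbd) (sv_ne_ng i₀ hac) t u)
  comm3 a b c hab hab' hbc hbc' hac hac' t u := Subtype.ext
    (S.comm3 _ _ _ (sv_ne i₀ hab) (sv_ne_ng i₀ hab') (sv_ne i₀ hbc) (sv_ne_ng i₀ hbc') (sv_ne i₀ hac)
      (sv_ne_ng i₀ hac') t u)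
  sso a b hab hab' t u := Subtype.ext (by
    show S.x (sv i₀ a) (sv i₀ b) t * S.x (sv i₀ b) (sv i₀ (ng a)) u =
      S.x (sv i₀ b) (sv i₀ (ng a)) u * S.x (sv i₀ a) (sv i₀ b) t
    rw [sv_ng]
    exact S.sso _ _ (sv_ne i₀ hab) (sv_ne_ng i₀ hab') t u)
  rel a b hab hab' t u ht := Subtype.ext (by
    show cj (S.x (sv i₀ a) (sv i₀ b) t * S.x (sv i₀ b) (sv i₀ a) (-t⁻¹) * S.x (sv i₀ a) (sv i₀ b) t)
      (S.x (sv i₀ a) (sv i₀ b) u) = S.x (sv i₀ b) (sv i₀ a) (-(t⁻¹ ^ 2 * u))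
    exact S.rel _ _ (sv_ne i₀ hab) (sv_ne_ng i₀ hab') t u ht)
  xs a t := ⟨S.xs (sv i₀ a) t, S.xs_mem_Lg_sv i₀ a t⟩
  adds a t u := Subtype.ext (S.adds (sv i₀ a) t u)
  comm_ls a c d hcd hcd' hda hca t u := Subtype.ext
    (S.comm_ls _ _ _ (sv_ne i₀ hcd) (sv_ne_ng i₀ hcd') (sv_ne i₀ hda) (sv_ne_ng i₀ hca) t u)
  ls a b hab hab' t u := Subtype.ext (by
    show S.x (sv i₀ a) (sv i₀ b) t * S.xs (sv i₀ b) u * (S.x (sv i₀ a) (sv i₀ b) t)⁻¹ * (S.xs (sv i₀ b) u)⁻¹ =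
      S.xs (sv i₀ a) (t * u) * S.x (sv i₀ a) (sv i₀ (ng b)) (t * u ^ 2)
    rw [sv_ng]
    exact S.ls _ _ (sv_ne i₀ hab) (sv_ne_ng i₀ hab') t u)
  ss a b hab hab' t u := Subtype.ext (by
    show S.xs (sv i₀ a) t * S.xs (sv i₀ b) u * (S.xs (sv i₀ a) t)⁻¹ * (S.xs (sv i₀ b) u)⁻¹ =
      S.x (sv i₀ a) (sv i₀ (ng b)) (-(2 * t * u))
    rw [sv_ng]
    exact S.ss _ _ (sv_ne i₀ hab) (sv_ne_ng i₀ hab') t u)
  rels a t u ht := Subtype.ext (by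
    show cj (S.xs (sv i₀ a) t * S.xs (sv i₀ (ng a)) t⁻¹ * S.xs (sv i₀ a) t) (S.xs (sv i₀ a) u) =
      S.xs (sv i₀ (ng a)) (t⁻¹ ^ 2 * u)
    rw [sv_ng]
    exact S.rels _ t u ht)

theorem sub_x_coe (i₀ : ι) (a b : {i // i ≠ i₀} ⊕ {i // i ≠ i₀}) (t : K) :
    (((S.sub i₀).x a b t : S.Lg (Sum.inl i₀)) : G) = S.x (sv i₀ a) (sv i₀ b) t := rfl

theorem sub_xs_coe (i₀ : ι) (a : {i // i ≠ i₀} ⊕ {i // i ≠ i₀}) (t : K) :
    (((S.sub i₀).xs a t : S.Lg (Sum.inl i₀)) : G) = S.xs (sv i₀ a) t := rfl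

theorem sub_w_coe (i₀ : ι) (a b : {i // i ≠ i₀} ⊕ {i // i ≠ i₀}) (t : K) :
    (((S.sub i₀).w a b t : S.Lg (Sum.inl i₀)) : G) = S.w (sv i₀ a) (sv i₀ b) t := rfl

theorem sub_h_coe (i₀ : ι) (a b : {i // i ≠ i₀} ⊕ {i // i ≠ i₀}) (t : K) :
    (((S.sub i₀).h a b t : S.Lg (Sum.inl i₀)) : G) = S.h (sv i₀ a) (sv i₀ b) t := rfl

theorem sub_ws_coe (i₀ : ι) (a : {i // i ≠ i₀} ⊕ {i // i ≠ i₀}) (t : K) :
    (((S.sub i₀).ws a t : S.Lg (Sum.inl i₀)) : G) = S.ws (sv i₀ a) t := by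
  show S.xs (sv i₀ a) t * S.xs (sv i₀ (ng a)) t⁻¹ * S.xs (sv i₀ a) t = S.ws (sv i₀ a) t
  rw [sv_ng]
  rfl

theorem sub_hs_coe (i₀ : ι) (a : {i // i ≠ i₀} ⊕ {i // i ≠ i₀}) (t : K) :
    (((S.sub i₀).hs a t : S.Lg (Sum.inl i₀)) : G) = S.hs (sv i₀ a) t := by
  show (((S.sub i₀).ws a t * (S.sub i₀).ws a (-1) : S.Lg (Sum.inl i₀)) : G) = S.ws (sv i₀ a) t * S.ws (sv i₀ a) (-1)
  rw [Subgroup.coe_mul, sub_ws_coe, sub_ws_coe]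

/-- the spin relation is inherited by the subsystem -/
theorem sub_spin (i₀ : ι) (hS : S.Spin) : (S.sub i₀).Spin := by
  intro a
  apply Subtype.ext
  rw [sub_hs_coe]
  exact hS _

/-- the subsystem generates the Levi factor -/
theorem sub_gen (i₀ : ι) : (S.sub i₀).XQ (fun _ _ => True) (fun _ => True) = ⊤ := by
  have h : ({g : S.Lg (Sum.inl i₀) | ∃ (a b : {i // i ≠ i₀} ⊕ {i // i ≠ i₀}) (t : K),
        a ≠ b ∧ a ≠ ng b ∧ True ∧ g = (S.sub i₀).x a b t} ∪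
        {g : S.Lg (Sum.inl i₀) | ∃ (a : {i // i ≠ i₀} ⊕ {i // i ≠ i₀}) (t : K), True ∧ g = (S.sub i₀).xs a t}) =
      ((↑) : S.Lg (Sum.inl i₀) → G) ⁻¹' ({g | ∃ a b t, a ≠ b ∧ a ≠ ng b ∧
        ((a ≠ Sum.inl i₀ ∧ a ≠ ng (Sum.inl i₀)) ∧ (b ≠ Sum.inl i₀ ∧ b ≠ ng (Sum.inl i₀))) ∧
          g = S.x a b t} ∪ {g | ∃ a t, (a ≠ Sum.inl i₀ ∧ a ≠ ng (Sum.inl i₀)) ∧ g = S.xs a t}) := by
    ext ⟨g, hg⟩
    constructor
    · rintro (⟨a, b, t, hab, hab', -, h⟩ | ⟨a, t, -, h⟩)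
      · exact Or.inl ⟨sv i₀ a, sv i₀ b, t, sv_ne i₀ hab, sv_ne_ng i₀ hab',
          ⟨⟨sv_ne_inl i₀ a, sv_ne_inr i₀ a⟩, ⟨sv_ne_inl i₀ b, sv_ne_inr i₀ b⟩⟩, congrArg Subtype.val h⟩
      · exact Or.inr ⟨sv i₀ a, t, ⟨sv_ne_inl i₀ a, sv_ne_inr i₀ a⟩, congrArg Subtype.val h⟩
    · rintro (⟨a, b, t, hab, hab', ⟨⟨ha, ha'⟩, ⟨hb, hb'⟩⟩, h⟩ | ⟨a, t, ⟨ha, ha'⟩, h⟩)
      · obtain ⟨a', rfl⟩ := exists_sv i₀ ha ha'
        obtain ⟨b', rfl⟩ := exists_sv i₀ hb hb'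
        exact Or.inl ⟨a', b', t, fun e => hab (by rw [e]), fun e => hab' (by rw [e, sv_ng]), trivial, Subtype.ext h⟩
      · obtain ⟨a', rfl⟩ := exists_sv i₀ ha ha'
        exact Or.inr ⟨a', t, trivial, Subtype.ext h⟩
  unfold XQ
  rw [h]
  exact Subgroup.closure_closure_coe_preimage

/-- without indices there are no root elements -/
theorem XQ_eq_bot_of_isEmpty [IsEmpty ι] (Q : ι ⊕ ι → ι ⊕ ι → Prop) (Qs : ι ⊕ ι → Prop) : S.XQ Q Qs = ⊥ := by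
  rw [eq_bot_iff]
  unfold XQ
  rw [Subgroup.closure_le]
  rintro _ (⟨a, -⟩ | ⟨a, -⟩)
  · exact (isEmptyElim (α := ι ⊕ ι) a)
  · exact (isEmptyElim (α := ι ⊕ ι) a)

namespace Rep

variable {S} {l : Type*} [Fintype l] [DecidableEq l] (R : S.Rep l)

/-- The restriction of a representation to the subsystem. -/
def sub (i₀ : ι) : (S.sub i₀).Rep l where
  e := (Function.Embedding.subtype _).trans R.e
  φ := R.φ.comp (S.Lg (Sum.inl i₀)).subtype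
  hφ a b hab hab' t := by
    have h := R.hφ (sv i₀ a) (sv i₀ b) (sv_ne i₀ hab) (sv_ne_ng i₀ hab') t
    have e1 : ∀ c : {i // i ≠ i₀} ⊕ {i // i ≠ i₀},
        Em ((Function.Embedding.subtype _).trans R.e) c = Em R.e (sv i₀ c) := by
      intro c; cases c <;> rfl
    rw [e1, e1]
    exact h
  hφs a t := by
    have h := R.hφs (sv i₀ a) t
    have e1 : ∀ c : {i // i ≠ i₀} ⊕ {i // i ≠ i₀},
        Em ((Function.Embedding.subtype _).trans R.e) c = Em R.e (sv i₀ c) := by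
      intro c; cases c <;> rfl
    rw [e1]
    exact h

theorem sub_phi (i₀ : ι) (x : S.Lg (Sum.inl i₀)) : (R.sub i₀).φ x = R.φ (x : G) := rfl

end Rep

end SysB

end Cfsg.Agent.Lib.Lead.STB
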